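import Mathlib
import Cfsg.Agent.Blocks.CoverConj
import Cfsg.Agent.Blocks.Over
import Cfsg.Agent.Blocks.Fong
import Cfsg.Agent.Blocks.Knorr
import Cfsg.Agent.S0914
import Cfsg.Agent.H675.Nd.Cliff
import Cfsg.Agent.H592.Defect
import Cfsg.Agent.S4510
import Cfsg.Agent.S0956
import Cfsg.Agent.S0963
import Cfsg.Agent.S0934
import Cfsg.Agent.H604.Acd
import Cfsg.Agent.CharactersDeep.MaxInduced
import Cfsg.Agent.S0886
import Cfsg.Agent.S0188
import Cfsg.Agent.H622.Over
import Cfsg.Agent.FastGrp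
import Cfsg.Agent.Prune
set_option linter.all false

section
prune_inst 0x7f00000000000000000000000000000000000000000000000000000000000000000000000000000000000000000000000000000000000000000000000000000000000000000000000000000000000000003fffffffffffffffffffffffffffbeffbdffffffff

-- part: H967/TI/PropC
section
set_option linter.all false
open scoped Cfsg.Agent.FastGrp

/-!
# Characters of a block are proportional on normal `p'`-subgroups

* `apply_div_of_sameBlock` : `χ n / χ 1 = χ' n / χ' 1` for `n ∈ N`, `N` normal of order prime to `p`, `χ`, `χ'` in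
  the same block.
-/

set_option autoImplicit false

namespace Cfsg.Agent.H967.TI

open Cfsg Subgroup
open scoped ComplexConjugate Pointwise
open Cfsg.Agent.Characters Cfsg.Agent.Characters.Core
open Cfsg.Agent.Blocks.Covering (conjIrr conjIrr_apply conjIrr_at_one)

universe u

variable {H : Type u} [Group H] [Finite H] {p : ℕ} [Fact p.Prime] {M : Ideal AlgInt}

theorem induced_conjIrr (N : Subgroup H) [N.Normal] (g : H) (θ : IrrCharacter N) (x : H) :
    inducedCentralChar N (conjIrr N g θ : N → ℂ) x = inducedCentralChar N (θ : N → ℂ) x := by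
  unfold inducedCentralChar
  have key : ∀ n : N, IsConj x ((MulAut.conjNormal g n : N) : H) ↔ IsConj x (n : H) := by
    intro n
    rw [MulAut.conjNormal_apply]
    have h1 : IsConj (n : H) (g * n * g⁻¹) := isConj_iff.2 ⟨g, rfl⟩
    exact ⟨fun h => h.trans h1.symm, fun h => h.trans h1⟩
  refine finsum_mem_eq_of_bijOn (MulAut.conjNormal g) ⟨?_, ?_, ?_⟩ ?_
  · intro n hn
    exact (key n).2 hn
  · exact (MulAut.conjNormal (H := N) g).injective.injOn
  · intro n hn
    refine ⟨(MulAut.conjNormal (H := N) g).symm n, ?_, (MulAut.conjNormal (H := N) g).apply_symm_apply n⟩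
    refine (key _).1 ?_
    rw [MulEquiv.apply_symm_apply]
    exact hn
  · intro n _
    rw [conjIrr_apply, conjIrr_at_one]

/-- Characters of a block are proportional on normal `p'`-subgroups. -/
theorem apply_div_of_sameBlock (hM : IsPModular p M) (N : Subgroup H) [N.Normal] (hN : ¬ p ∣ Nat.card N)
    {χ χ' : IrrCharacter H} (hs : SameBlock M (χ : H → ℂ) (χ' : H → ℂ)) {n : H} (hn : n ∈ N) :
    (χ : H → ℂ) n / (χ : H → ℂ) 1 = (χ' : H → ℂ) n / (χ' : H → ℂ) 1 := by
  classical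
  have := hM.2.1.isPrime
  have := Fintype.ofFinite H
  have := Fintype.ofFinite N
  obtain ⟨θ, hθ⟩ := Blocks.Fong.exists_constituent N χ
  obtain ⟨θ', hθ'⟩ := Blocks.Fong.exists_constituent N χ'
  have e1 : ∀ n : N, centralChar (χ : H → ℂ) (n : H) = inducedCentralChar N (θ : N → ℂ) (n : H) :=
    Blocks.Over.centralChar_eq_of_over N χ.2 θ.2 hθ
  have e2 : ∀ n : N, centralChar (χ' : H → ℂ) (n : H) = inducedCentralChar N (θ' : N → ℂ) (n : H) :=
    Blocks.Over.centralChar_eq_of_over N χ'.2 θ'.2 hθ'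
  have hb : IsPBlock M ({θ} : Set (IrrCharacter N)) := by
    refine ⟨θ, ((S0914.result p M hM θ).mp fun h => hN (h.trans ?_)).symm⟩
    exact Nat.div_dvd_of_dvd (Blocks.Knorr.charDegree_dvd θ.2)
  obtain ⟨g, hg⟩ := Blocks.CoverConj.exists_conjIrr_mem p hM N {θ} hb θ rfl θ' (fun n => by
    rw [← e1, ← e2]
    exact Blocks.Fong.sameBlock_symm hs _)
  have e3 : centralChar (χ : H → ℂ) n = centralChar (χ' : H → ℂ) n := by
    rw [e1 ⟨n, hn⟩, e2 ⟨n, hn⟩, ← induced_conjIrr N g θ', Set.mem_singleton_iff.1 hg]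
  unfold centralChar at e3
  have h0 : ((centralizer ({n} : Set H)).index : ℂ) ≠ 0 :=
    Nat.cast_ne_zero.2 Subgroup.index_ne_zero_of_finite
  rw [mul_div_assoc, mul_div_assoc] at e3
  exact mul_left_cancel₀ h0 e3

end Cfsg.Agent.H967.TI
end

-- part: H681/TI/Blk
section
set_option linter.all false
open scoped Cfsg.Agent.FastGrp

/-!
# S4819, Clifford part: the blocks of full defect over a character of a normal `p'`-subgroup (helper681)

`P` a Sylow `p`-subgroup with `P ∩ P^x` trivial or `P`, `K` a normal `p'`-subgroup containing the `p'`-elements of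
`C(P)`:

* `full_or_dz` : a character is of `p`-defect zero or in a block of full defect;
* `sameBlock_of_over` : two characters in blocks of full defect over the same character of `K` are in the same block;
* `blocks` : for a block `B` of `G` with defect group `P` and a block `b` of `N(P)` inducing `B` there is `θ ∈ Irr K`
  with `B = {χ | χ over θ, not of defect zero}`, `b = {ψ | ψ over θ}`.
-/

set_option autoImplicit false
set_option linter.style.haveILetI false
set_option linter.unusedSectionVars false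

open Cfsg
open scoped Pointwise

namespace Cfsg.Agent.H681.TI

open Cfsg.Agent.H672 Cfsg.Agent.H672.RM Cfsg.Agent.Characters.Core

universe u

/-- `p`-defect zero -/
def DZ (p : ℕ) {G : Type u} [Group G] (χ : G → ℂ) : Prop :=
  (charDegree χ).factorization p = (Nat.card G).factorization p

section
variable {X : Type u} [Group X] [Finite X] {p : ℕ} [hp : Fact p.Prime] {M : Ideal AlgInt}

theorem factorization_le {χ : X → ℂ} (hχ : IsIrrCharacter X χ) :
    (charDegree χ).factorization p ≤ (Nat.card X).factorization p :=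
  (Nat.factorization_le_iff_dvd (Blocks.Basic.charDegree_pos hχ).ne' Nat.card_pos.ne').2
    (Blocks.Knorr.charDegree_dvd hχ) p

theorem dz_iff {χ : X → ℂ} (hχ : IsIrrCharacter X χ) : DZ p χ ↔ ¬ p ∣ Nat.card X / charDegree χ := by
  have h0 := (Blocks.Basic.charDegree_pos hχ).ne'
  have hd := Blocks.Knorr.charDegree_dvd hχ
  obtain ⟨m, hm⟩ := hd
  have hm0 : m ≠ 0 := by
    rintro rfl
    rw [mul_zero] at hm
    exact Nat.card_pos.ne' hm
  rw [hm, Nat.mul_div_cancel_left m (Nat.pos_of_ne_zero h0)]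
  unfold DZ
  rw [hm, Nat.factorization_mul h0 hm0, Finsupp.add_apply]
  rw [hp.out.dvd_iff_one_le_factorization hm0]
  omega

theorem blockOf_of_dz (hM : IsPModular p M) {χ : IrrCharacter X} (h : DZ p (χ : X → ℂ)) :
    blockOf M (χ : X → ℂ) = {χ} :=
  (S0914.result p M hM χ).1 ((dz_iff χ.2).1 h)

theorem blockDefect_of_dz (hM : IsPModular p M) {χ : IrrCharacter X} (h : DZ p (χ : X → ℂ)) :
    blockDefect p (blockOf M (χ : X → ℂ)) = 0 := by
  rw [blockOf_of_dz hM h, Blocks.Basic.blockDefect_def, Set.image_singleton, csInf_singleton]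
  unfold DZ at h
  omega

/-- A character is of defect zero or lies in a block of full defect. -/
theorem full_or_dz (hM : IsPModular p M) (P : Sylow p X)
    (hTI : ∀ x : X, (P : Subgroup X) ⊓ (P : Subgroup X).map (MulAut.conj x).toMonoidHom = ⊥ ∨
      (P : Subgroup X) ⊓ (P : Subgroup X).map (MulAut.conj x).toMonoidHom = P)
    (χ : IrrCharacter X) (h : ¬ DZ p (χ : X → ℂ)) :
    blockDefect p (blockOf M (χ : X → ℂ)) = (Nat.card X).factorization p := by
  have hMp := hM.2.1.isPrime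
  have hB : IsPBlock M (blockOf M (χ : X → ℂ)) := ⟨χ, rfl⟩
  obtain ⟨D, hD⟩ := H592.Defect.exists_defectGroup p hM hB
  have hDp := H592.Defect.isPGroup_of_isDefectGroup hD
  obtain ⟨Q, hQ⟩ := hDp.exists_le_sylow
  obtain ⟨g, hg⟩ := MulAction.exists_smul_eq X Q P
  have hD' := Blocks.Basic.isDefectGroup_conj hD g
  have hle : D.map (MulAut.conj g).toMonoidHom ≤ (P : Subgroup X) := by
    have h1 : (P : Subgroup X) = (Q : Subgroup X).map (MulAut.conj g).toMonoidHom := by
      rw [← hg]; rfl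
    rw [h1]
    exact Subgroup.map_mono hQ
  obtain ⟨x, -, -, hx⟩ := S0956.result p M hM _ hB _ hD' P hle
  have hcard := H592.Defect.factorization_card_defect p hM hB hD'
  rcases hTI x with h1 | h1
  · rw [h1] at hx
    rw [← hx, Subgroup.card_bot, Nat.factorization_one, Finsupp.zero_apply] at hcard
    exfalso
    apply h
    have h2 : sInf ((fun χ : IrrCharacter X => (charDegree (χ : X → ℂ)).factorization p) ''
        (blockOf M (χ : X → ℂ))) ≤ (charDegree (χ : X → ℂ)).factorization p :=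
      Nat.sInf_le ⟨χ, Blocks.Basic.mem_blockOf_self χ, rfl⟩
    have h3 : (charDegree (χ : X → ℂ)).factorization p ≤ (Nat.card X).factorization p :=
      factorization_le χ.2
    rw [Blocks.Basic.blockDefect_def] at hcard
    unfold DZ
    omega
  · rw [h1] at hx
    rw [← hcard, ← hx, P.card_eq_multiplicity, hp.out.factorization_pow, Finsupp.single_eq_same]

/-- Over a character of a normal `p'`-subgroup: a property of the block. -/
theorem over_of_sameBlock (hM : IsPModular p M) (K : Subgroup X) [K.Normal] (hK : ¬ p ∣ Nat.card K)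
    {θ : K → ℂ} (hθ : IsIrrCharacter K θ) {χ ψ : IrrCharacter X}
    (h : SameBlock M (χ : X → ℂ) (ψ : X → ℂ)) (h1 : Over K.subtype (χ : X → ℂ) θ) :
    Over K.subtype (ψ : X → ℂ) θ := by
  classical
  letI := Fintype.ofFinite X
  letI := Fintype.ofFinite K
  rw [over_subtype_iff] at h1 ⊢
  rw [S0963.result K ψ ⟨θ, hθ⟩]
  have h2 := (S0963.result K χ ⟨θ, hθ⟩).1 h1
  intro n
  rw [← h2 n]
  unfold centralChar
  rw [mul_div_assoc, mul_div_assoc, H967.TI.apply_div_of_sameBlock hM K hK h n.2]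

/-- Characters in blocks of full defect over the same character. -/
theorem sameBlock_of_over (hM : IsPModular p M) (P : Sylow p X) (K : Subgroup X) [K.Normal]
    (hC : ∀ x ∈ Subgroup.centralizer ((P : Subgroup X) : Set X), ¬ p ∣ orderOf x → x ∈ K)
    {θ : K → ℂ} (hθ : IsIrrCharacter K θ) {χ ψ : IrrCharacter X}
    (h1 : Over K.subtype (χ : X → ℂ) θ) (h2 : Over K.subtype (ψ : X → ℂ) θ)
    (d1 : blockDefect p (blockOf M (χ : X → ℂ)) = (Nat.card X).factorization p)
    (d2 : blockDefect p (blockOf M (ψ : X → ℂ)) = (Nat.card X).factorization p) :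
    SameBlock M (χ : X → ℂ) (ψ : X → ℂ) := by
  classical
  letI := Fintype.ofFinite X
  letI := Fintype.ofFinite K
  have hMp := hM.2.1.isPrime
  rw [S4510.result p M hM _ χ ψ d1 d2]
  intro x hx hcx
  have hxK : x ∈ K := by
    obtain ⟨Q⟩ : Nonempty (Sylow p (Subgroup.centralizer ({x} : Set X))) := inferInstance
    have hQ : IsPGroup p ((Q : Subgroup (Subgroup.centralizer ({x} : Set X))).map
        (Subgroup.centralizer ({x} : Set X)).subtype) := Q.2.map _
    obtain ⟨R, hR⟩ := hQ.exists_le_sylow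
    have hRQ : (R : Subgroup X) ≤ Subgroup.centralizer ({x} : Set X) := by
      have hc : Nat.card ((Q : Subgroup (Subgroup.centralizer ({x} : Set X))).map
          (Subgroup.centralizer ({x} : Set X)).subtype) = Nat.card R := by
        rw [Subgroup.card_map_of_injective (Subgroup.subtype_injective _), Q.card_eq_multiplicity,
          R.card_eq_multiplicity, hcx]
      have h3 := Subgroup.eq_of_le_of_card_ge hR hc.ge
      rw [← h3]
      rintro _ ⟨y, -, rfl⟩
      exact y.2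
    obtain ⟨g, hg⟩ := MulAction.exists_smul_eq X R P
    have h4 : g * x * g⁻¹ ∈ K := by
      apply hC
      · rw [Subgroup.mem_centralizer_iff]
        intro y hy
        rw [← hg] at hy
        obtain ⟨r, hr, rfl⟩ := hy
        have h5 := Subgroup.mem_centralizer_singleton_iff.1 (hRQ hr)
        change g * r * g⁻¹ * (g * x * g⁻¹) = g * x * g⁻¹ * (g * r * g⁻¹)
        calc g * r * g⁻¹ * (g * x * g⁻¹) = g * (r * x) * g⁻¹ := by group
          _ = g * (x * r) * g⁻¹ := by rw [h5]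
          _ = g * x * g⁻¹ * (g * r * g⁻¹) := by group
      · have h6 : g * x * g⁻¹ = MulAut.conj g x := rfl
        rw [h6, MulEquiv.orderOf_eq]
        exact hx
    have h7 := Subgroup.Normal.conj_mem ‹K.Normal› _ h4 g⁻¹
    have h8 : g⁻¹ * (g * x * g⁻¹) * g⁻¹⁻¹ = x := by group
    rwa [h8] at h7
  rw [over_subtype_iff] at h1 h2
  have e1 := (S0963.result K χ ⟨θ, hθ⟩).1 h1 ⟨x, hxK⟩
  have e2 := (S0963.result K ψ ⟨θ, hθ⟩).1 h2 ⟨x, hxK⟩
  simp only at e1 e2
  rw [e1, e2, sub_self]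
  exact Blocks.Fong.lideal_zero hMp

end

section blocks
variable {G : Type u} [Group G] [Finite G] {p : ℕ} [hp : Fact p.Prime] {M : Ideal AlgInt}

/-- the form of the TI condition in the statements -/
theorem inf_eq_of_ti (P : Sylow p G) (hTI : ∀ g : G, g ∉ Subgroup.normalizer ((P : Subgroup G) : Set G) →
    (P : Subgroup G) ⊓ (MulAut.conj g • (P : Subgroup G)) = ⊥) (x : G) :
    (P : Subgroup G) ⊓ (P : Subgroup G).map (MulAut.conj x).toMonoidHom = ⊥ ∨
      (P : Subgroup G) ⊓ (P : Subgroup G).map (MulAut.conj x).toMonoidHom = P := by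
  by_cases hx : x ∈ Subgroup.normalizer ((P : Subgroup G) : Set G)
  · right
    have h1 : (P : Subgroup G).map (MulAut.conj x).toMonoidHom = P :=
      congrArg Sylow.toSubgroup (Sylow.smul_eq_iff_mem_normalizer.2 hx)
    rw [h1, inf_idem]
  · left
    exact hTI x hx

/-- Part I: the blocks `B` and `b` over a character of `K`. -/
theorem blocks_aux (hM : IsPModular p M) (P : Sylow p G) (N : Subgroup G)
    (hN : N = Subgroup.normalizer ((P : Subgroup G) : Set G)) (hP1 : (P : Subgroup G) ≠ ⊥)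
    (hTI : ∀ g : G, g ∉ Subgroup.normalizer ((P : Subgroup G) : Set G) →
      (P : Subgroup G) ⊓ (MulAut.conj g • (P : Subgroup G)) = ⊥)
    (K : Subgroup G) [hKn : K.Normal] (hK : ¬ p ∣ Nat.card K)
    (hKN : K ≤ N)
    (hC : ∀ x ∈ Subgroup.centralizer ((P : Subgroup G) : Set G), ¬ p ∣ orderOf x → x ∈ K)
    (B : Set (IrrCharacter G)) (hBP : IsDefectGroup p M B P)
    (b : Set (IrrCharacter N)) (hb : IsInducedBlock M N b B) :
    ∃ θ : K → ℂ, IsIrrCharacter K θ ∧
      (∀ χ : IrrCharacter G, χ ∈ B ↔ Over K.subtype (χ : G → ℂ) θ ∧ ¬ DZ p (χ : G → ℂ)) ∧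
      (∀ ψ : IrrCharacter N, ψ ∈ b ↔ Over (Subgroup.inclusion hKN) (ψ : N → ℂ) θ) := by
  classical
  letI := Fintype.ofFinite G
  letI := Fintype.ofFinite N
  letI := Fintype.ofFinite K
  have hMp := hM.2.1.isPrime
  have hbb : IsPBlock M b := hb.1
  have hBB : IsPBlock M B := hb.2.1
  obtain ⟨ξ, hξ⟩ := Blocks.Basic.isPBlock_nonempty hbb
  obtain ⟨θ, hθ, hξθ⟩ := exists_under (f := Subgroup.inclusion hKN) ξ.2
  obtain ⟨χ₀, hχ₀, h₀⟩ := S0934.result p M hM N b B hb ξ hξ
  have hχ₀θ : Over K.subtype (χ₀ : G → ℂ) θ := by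
    have h1 : K.subtype = N.subtype.comp (Subgroup.inclusion hKN) := rfl
    rw [h1, over_comp_iff _ _ (isIrr_isCharacter χ₀.2) hθ]
    refine ⟨ξ, ξ.2, ?_, hξθ⟩
    rw [over_subtype_iff]
    exact h₀
  have hPpos : 0 < (Nat.card (P : Subgroup G)).factorization p := by
    rw [P.card_eq_multiplicity, hp.out.factorization_pow, Finsupp.single_eq_same]
    rcases Nat.eq_zero_or_pos ((Nat.card G).factorization p) with h | h
    · exfalso
      apply hP1
      rw [← Subgroup.card_eq_one]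
      change Nat.card (P : Subgroup G) = 1
      rw [P.card_eq_multiplicity, h, pow_zero]
    · exact h
  have hBd : blockDefect p B = (Nat.card G).factorization p := by
    rw [← H592.Defect.factorization_card_defect p hM hBB hBP, P.card_eq_multiplicity,
      hp.out.factorization_pow, Finsupp.single_eq_same]
  refine ⟨θ, hθ, fun χ => ⟨fun hχ => ⟨?_, ?_⟩, fun hχ => ?_⟩, fun ψ => ⟨fun hψ => ?_, fun hψ => ?_⟩⟩
  · exact over_of_sameBlock hM K hK hθ (Blocks.Basic.isPBlock_sameBlock hBB hχ₀ hχ) hχ₀θ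
  · intro hdz
    have h1 := blockDefect_of_dz hM hdz
    rw [← Blocks.Basic.isPBlock_eq_blockOf hBB hχ, ← H592.Defect.factorization_card_defect p hM hBB hBP] at h1
    omega
  · refine Blocks.Basic.isPBlock_mem_of_sameBlock hBB hχ₀ ?_
    refine sameBlock_of_over hM P K hC hθ hχ₀θ hχ.1 ?_ (full_or_dz hM P (inf_eq_of_ti P hTI) χ hχ.2)
    rw [← Blocks.Basic.isPBlock_eq_blockOf hBB hχ₀, hBd]
  · haveI : (K.subgroupOf N).Normal := inferInstance
    have hK' : ¬ p ∣ Nat.card (K.subgroupOf N) := by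
      rw [Nat.card_congr (Subgroup.subgroupOfEquivOfLe hKN).toEquiv]; exact hK
    rw [over_iff_sub hKN]
    rw [over_iff_sub hKN] at hξθ
    exact over_of_sameBlock hM (K.subgroupOf N) hK' (isIrr_sub hKN hθ)
      (Blocks.Basic.isPBlock_sameBlock hbb hξ hψ) hξθ
  · haveI : (K.subgroupOf N).Normal := inferInstance
    have hPN : (P : Subgroup G) ≤ N := by rw [hN]; exact Subgroup.le_normalizer
    let P' : Sylow p N := P.subtype hPN
    have hP' : (P' : Subgroup N) = (P : Subgroup G).subgroupOf N := rfl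
    have hP'n : (P' : Subgroup N).Normal := by
      rw [hP']; exact normal_subgroupOf hN.le
    haveI := P'.unique_of_normal hP'n
    have hconj : ∀ x : N, (P' : Subgroup N).map (MulAut.conj x).toMonoidHom = P' := fun x =>
      congrArg Sylow.toSubgroup (Subsingleton.elim (x • P') P')
    have hC' : ∀ x ∈ Subgroup.centralizer ((P' : Subgroup N) : Set N), ¬ p ∣ orderOf x →
        x ∈ K.subgroupOf N := by
      intro x hx hxo
      rw [Subgroup.mem_subgroupOf]
      apply hC
      · rw [Subgroup.mem_centralizer_iff] at hx ⊢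
        intro y hy
        exact congrArg Subtype.val (hx ⟨y, hPN hy⟩ (by rw [hP']; exact Subgroup.mem_subgroupOf.2 hy))
      · rw [Subgroup.orderOf_coe]; exact hxo
    have hPc : 0 < (Nat.card (P' : Subgroup N)).factorization p := by
      have h1 : Nat.card (P' : Subgroup N) = Nat.card (P : Subgroup G) :=
        Nat.card_congr (Subgroup.subgroupOfEquivOfLe hPN).toEquiv
      rw [h1]; exact hPpos
    have hfull : ∀ φ : IrrCharacter N, blockDefect p (blockOf M (φ : N → ℂ)) = (Nat.card N).factorization p := by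
      intro φ
      have hφB : IsPBlock M (blockOf M (φ : N → ℂ)) := ⟨φ, rfl⟩
      by_cases hd : DZ p (φ : N → ℂ)
      · exfalso
        obtain ⟨D, hD⟩ := H592.Defect.exists_defectGroup p hM hφB
        have hDp := H592.Defect.isPGroup_of_isDefectGroup hD
        have hDP : D ≤ (P' : Subgroup N) := by
          obtain ⟨Q, hQ⟩ := hDp.exists_le_sylow
          rw [Subsingleton.elim Q P'] at hQ
          exact hQ
        obtain ⟨x, -, -, hx⟩ := S0956.result p M hM _ hφB _ hD P' hDP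
        rw [hconj x, inf_idem] at hx
        have h4 := H592.Defect.factorization_card_defect p hM hφB hD
        rw [blockDefect_of_dz hM hd, ← hx] at h4
        omega
      · refine full_or_dz hM P' (fun x => Or.inr ?_) φ hd
        rw [hconj x, inf_idem]
    refine Blocks.Basic.isPBlock_mem_of_sameBlock hbb hξ ?_
    rw [over_iff_sub hKN] at hψ hξθ
    exact sameBlock_of_over hM P' (K.subgroupOf N) hC' (isIrr_sub hKN hθ) hξθ hψ (hfull ξ) (hfull ψ)

end blocks

end Cfsg.Agent.H681.TI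
end

-- part: H681/TI/Cnt
section
set_option linter.all false
open scoped Cfsg.Agent.FastGrp

/-!
# S4819, Clifford part: counting characters over a character of a normal subgroup (helper681)

* `Inert.equiv` : the Clifford correspondence as a bijection; `cND_clifford`, `cAll_clifford`;
* `gal_equiv` : Gallagher's theorem as a bijection with the characters of the quotient; `cND_of_ext`, `cAll_of_ext`.
-/

set_option autoImplicit false
set_option linter.style.haveILetI false
set_option linter.unusedSectionVars false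

open Cfsg
open scoped Pointwise

namespace Cfsg.Agent.H681.TI

open Cfsg.Agent.H672 Cfsg.Agent.H672.RM Cfsg.Agent.H675.Nd Cfsg.Agent.Characters.Core

universe u v w

/-- number of the characters over `θ` not of defect zero -/
noncomputable def cND (p : ℕ) {X : Type u} [Group X] {H : Type v} [Group H] [Finite H] (f : H →* X) (θ : H → ℂ) : ℕ :=
  Nat.card {χ : IrrCharacter X // Over f (χ : X → ℂ) θ ∧ ¬ DZ p (χ : X → ℂ)}

/-- number of the characters over `θ` -/
noncomputable def cAll {X : Type u} [Group X] {H : Type v} [Group H] [Finite H] (f : H →* X) (θ : H → ℂ) : ℕ :=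
  Nat.card {χ : IrrCharacter X // Over f (χ : X → ℂ) θ}

section iso
variable {X : Type u} {Y : Type w} {H : Type v} {H' : Type*} [Group X] [Group Y] [Group H] [Group H']
  [Finite H] [Finite H'] [Finite X] [Finite Y]

theorem dz_comp (p : ℕ) (e : X ≃* Y) (χ : Y → ℂ) : DZ p (χ ∘ e) ↔ DZ p χ := by
  unfold DZ
  rw [show charDegree (χ ∘ e) = charDegree χ from charDegree_comp_one e.toMonoidHom _,
    Nat.card_congr e.toEquiv]

theorem over_comp (e : X ≃* Y) (e0 : H ≃* H') (f : H →* X) (f' : H' →* Y)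
    (hf : ∀ h, f' (e0 h) = e (f h)) (θ : H → ℂ) (θ' : H' → ℂ) (hθ : ∀ h, θ' (e0 h) = θ h) (χ : Y → ℂ) :
    Over f (χ ∘ e) θ ↔ Over f' χ θ' := by
  rw [← over_comp_equiv f' e0]
  have e1 : (f'.comp e0.toMonoidHom) = e.toMonoidHom.comp f := by
    ext h; exact hf h
  have e2 : θ' ∘ e0 = θ := funext hθ
  rw [e1, e2]
  rfl

theorem cND_congr (p : ℕ) (e : X ≃* Y) (e0 : H ≃* H') (f : H →* X) (f' : H' →* Y)
    (hf : ∀ h, f' (e0 h) = e (f h)) (θ : H → ℂ) (θ' : H' → ℂ) (hθ : ∀ h, θ' (e0 h) = θ h) :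
    cND p f θ = cND p f' θ' := by
  symm
  refine Nat.card_congr ((irrEquiv e).subtypeEquiv ?_)
  intro χ
  exact ((over_comp e e0 f f' hf θ θ' hθ (χ : Y → ℂ)).symm.and (dz_comp p e (χ : Y → ℂ)).not.symm)

theorem cAll_congr (e : X ≃* Y) (e0 : H ≃* H') (f : H →* X) (f' : H' →* Y)
    (hf : ∀ h, f' (e0 h) = e (f h)) (θ : H → ℂ) (θ' : H' → ℂ) (hθ : ∀ h, θ' (e0 h) = θ h) :
    cAll f θ = cAll f' θ' := by
  symm
  refine Nat.card_congr ((irrEquiv e).subtypeEquiv ?_)
  intro χ
  exact (over_comp e e0 f f' hf θ θ' hθ (χ : Y → ℂ)).symm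

end iso

section cliff
variable {G : Type u} [Group G] [Finite G] {K T U : Subgroup G} {θ : K → ℂ}

/-- The Clifford correspondence as a bijection. -/
theorem inert_equiv (h : Inert K T U θ) :
    ∃ e : {η : IrrCharacter T // Over (Subgroup.inclusion h.KT) (η : T → ℂ) θ} ≃
      {ψ : IrrCharacter U // Over (Subgroup.inclusion h.le) (ψ : U → ℂ) θ},
      ∀ η, charDegree ((e η).1 : U → ℂ) = T.relIndex U * charDegree (η.1 : T → ℂ) := by
  classical
  letI := Fintype.ofFinite U
  letI := Fintype.ofFinite (T.subgroupOf U)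
  choose ψ hψ h1 h2 h3 using fun η : {η : IrrCharacter T // Over (Subgroup.inclusion h.KT) (η : T → ℂ) θ} =>
    h.lift η.1.2 η.2
  let F : {η : IrrCharacter T // Over (Subgroup.inclusion h.KT) (η : T → ℂ) θ} →
      {ψ : IrrCharacter U // Over (Subgroup.inclusion h.le) (ψ : U → ℂ) θ} := fun η =>
    ⟨⟨ψ η, hψ η⟩, h2 η⟩
  have hF : Function.Bijective F := by
    constructor
    · intro η η' he
      have e1 : ψ η = ψ η' := congrArg (fun x => ((x.1 : IrrCharacter U) : U → ℂ)) he
      apply Subtype.ext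
      apply Subtype.ext
      refine h.unique η.1.2 η'.1.2 η.2 η'.2 (hψ η) (h1 η) ?_
      rw [e1]
      exact h1 η'
    · rintro ⟨φ, hφ⟩
      obtain ⟨η, hη, ho, hψη, -⟩ := h.exists_eta φ.2 hφ
      refine ⟨⟨⟨η, hη⟩, ho⟩, ?_⟩
      apply Subtype.ext
      apply Subtype.ext
      have e1 := eq_indFun_of_over _ (h.irr_ind hη ho) φ.2 ((h.over_sub_iff _ η).2 hψη)
      have e2 := eq_indFun_of_over _ (h.irr_ind hη ho) (hψ ⟨⟨η, hη⟩, ho⟩)
        ((h.over_sub_iff _ η).2 (h1 ⟨⟨η, hη⟩, ho⟩))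
      exact e2.trans e1.symm
  exact ⟨Equiv.ofBijective F hF, fun η => h3 η⟩

theorem cAll_clifford (h : Inert K T U θ) :
    cAll (Subgroup.inclusion h.le) θ = cAll (Subgroup.inclusion h.KT) θ := by
  obtain ⟨e, -⟩ := inert_equiv h
  exact (Nat.card_congr e).symm

theorem dz_mul {p : ℕ} [hp : Fact p.Prime] {T U : Subgroup G} (hTU : T ≤ U) {η : T → ℂ} (hη : IsIrrCharacter T η)
    {ψ : U → ℂ} (h : charDegree ψ = T.relIndex U * charDegree η) : DZ p ψ ↔ DZ p η := by
  unfold DZ
  have h1 : Nat.card U = T.relIndex U * Nat.card T := by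
    have h0 := (T.subgroupOf U).card_mul_index
    rw [Nat.card_congr (Subgroup.subgroupOfEquivOfLe hTU).toEquiv, mul_comm] at h0
    exact h0.symm
  have h2 : T.relIndex U ≠ 0 := Subgroup.index_ne_zero_of_finite
  rw [h, h1, Nat.factorization_mul h2 (Blocks.Basic.charDegree_pos hη).ne',
    Nat.factorization_mul h2 Nat.card_pos.ne', Finsupp.add_apply, Finsupp.add_apply]
  omega

theorem cND_clifford {p : ℕ} [hp : Fact p.Prime] (h : Inert K T U θ) :
    cND p (Subgroup.inclusion h.le) θ = cND p (Subgroup.inclusion h.KT) θ := by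
  obtain ⟨e, he⟩ := inert_equiv h
  symm
  refine Nat.card_congr ?_
  refine (Equiv.subtypeSubtypeEquivSubtypeInter _ _).symm.trans
    (Equiv.trans ?_ (Equiv.subtypeSubtypeEquivSubtypeInter _ _))
  refine e.subtypeEquiv fun η => ?_
  exact (dz_mul h.TU η.1.2 (he η)).not.symm

end cliff

section ext
variable {G : Type u} [Group G] [Finite G] {K T : Subgroup G} {θ : K → ℂ} {Q : Type w} [Group Q] [Finite Q]

/-- The characters of the quotient. -/
theorem infl_equiv (hKT : K ≤ T) (π : T →* Q) (hπ : Function.Surjective π)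
    (hker : ∀ t : T, π t = 1 ↔ (t : G) ∈ K) :
    ∃ E : IrrCharacter Q ≃ {β : IrrCharacter T // ∀ k : K, (β : T → ℂ) (Subgroup.inclusion hKT k) = (β : T → ℂ) 1},
      ∀ χ, ((E χ).1 : T → ℂ) = (χ : Q → ℂ) ∘ π := by
  classical
  obtain ⟨E, hE⟩ := H604.Acd.exists_equiv_quotient π.ker
  let e : T ⧸ π.ker ≃* Q := QuotientGroup.quotientKerEquivOfSurjective π hπ
  have hiff : ∀ χ : IrrCharacter T, (∀ n ∈ π.ker, (χ : T → ℂ) n = (χ : T → ℂ) 1) ↔
      ∀ k : K, (χ : T → ℂ) (Subgroup.inclusion hKT k) = (χ : T → ℂ) 1 := by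
    intro χ
    constructor
    · intro h k
      exact h _ ((MonoidHom.mem_ker).2 ((hker _).2 k.2))
    · intro h n hn
      exact h ⟨n, (hker n).1 ((MonoidHom.mem_ker).1 hn)⟩
  refine ⟨((irrEquiv e).trans E).trans (Equiv.subtypeEquivRight hiff), fun χ => ?_⟩
  change ((E (irrEquiv e χ)).1 : T → ℂ) = _
  rw [hE]
  funext t
  rfl

/-- Gallagher's theorem as a bijection. -/
theorem gal_equiv (hKT : K ≤ T) (hT : T ≤ Subgroup.normalizer (K : Set G)) (hθ : IsIrrCharacter K θ)
    {χ : T → ℂ} (hχ : IsIrrCharacter T χ) (hres : ∀ k : K, χ (Subgroup.inclusion hKT k) = θ k)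
    (π : T →* Q) (hπ : Function.Surjective π) (hker : ∀ t : T, π t = 1 ↔ (t : G) ∈ K) :
    ∃ e : IrrCharacter Q ≃ {ψ : IrrCharacter T // Over (Subgroup.inclusion hKT) (ψ : T → ℂ) θ},
      ∀ β, charDegree ((e β).1 : T → ℂ) = charDegree (β : Q → ℂ) * charDegree θ := by
  classical
  obtain ⟨E, hE⟩ := infl_equiv hKT π hπ hker
  have hb := gal hKT hT hθ hχ hres
  let F : {β : IrrCharacter T // ∀ k : K, (β : T → ℂ) (Subgroup.inclusion hKT k) = (β : T → ℂ) 1} →
      {ψ : IrrCharacter T // Over (Subgroup.inclusion hKT) (ψ : T → ℂ) θ} := fun β =>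
    ⟨⟨(β.1 : T → ℂ) * χ, (hb.mapsTo ⟨β.1.2, β.2⟩).1⟩, (hb.mapsTo ⟨β.1.2, β.2⟩).2⟩
  have hF : Function.Bijective F := by
    constructor
    · intro β β' h
      have h1 : (β.1 : T → ℂ) * χ = (β'.1 : T → ℂ) * χ := congrArg (fun x => ((x.1 : IrrCharacter T) : T → ℂ)) h
      apply Subtype.ext
      apply Subtype.ext
      exact hb.injOn ⟨β.1.2, β.2⟩ ⟨β'.1.2, β'.2⟩ h1
    · rintro ⟨ψ, hψ⟩
      obtain ⟨β, hβ, hβ'⟩ := hb.surjOn ⟨ψ.2, hψ⟩
      exact ⟨⟨⟨β, hβ.1⟩, hβ.2⟩, Subtype.ext (Subtype.ext hβ')⟩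
  refine ⟨E.trans (Equiv.ofBijective F hF), fun β => ?_⟩
  have h1 : (((E.trans (Equiv.ofBijective F hF)) β).1 : T → ℂ) = ((β : Q → ℂ) ∘ π) * χ := by
    change ((E β).1 : T → ℂ) * χ = _
    rw [hE]
  have hirr := ((E.trans (Equiv.ofBijective F hF)) β).1.2
  apply charDegree_of_eq
  rw [h1]
  push_cast
  rw [coe_charDegree β.2, coe_charDegree hθ, Pi.mul_apply, Function.comp, map_one]
  congr 1
  have := hres 1
  rwa [map_one] at this

/-- the count when `θ` extends -/
theorem cAll_of_ext (hKT : K ≤ T) (hT : T ≤ Subgroup.normalizer (K : Set G)) (hθ : IsIrrCharacter K θ)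
    {χ : T → ℂ} (hχ : IsIrrCharacter T χ) (hres : ∀ k : K, χ (Subgroup.inclusion hKT k) = θ k)
    (π : T →* Q) (hπ : Function.Surjective π) (hker : ∀ t : T, π t = 1 ↔ (t : G) ∈ K) :
    cAll (Subgroup.inclusion hKT) θ = Nat.card (ConjClasses Q) := by
  obtain ⟨e, -⟩ := gal_equiv hKT hT hθ hχ hres π hπ hker
  rw [← card_irr]
  exact (Nat.card_congr e).symm

theorem cND_of_ext {p : ℕ} [hp : Fact p.Prime] (hpK : ¬ p ∣ Nat.card K)
    (hKT : K ≤ T) (hT : T ≤ Subgroup.normalizer (K : Set G)) (hθ : IsIrrCharacter K θ)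
    {χ : T → ℂ} (hχ : IsIrrCharacter T χ) (hres : ∀ k : K, χ (Subgroup.inclusion hKT k) = θ k)
    (π : T →* Q) (hπ : Function.Surjective π) (hker : ∀ t : T, π t = 1 ↔ (t : G) ∈ K) :
    cND p (Subgroup.inclusion hKT) θ = Nat.card {β : IrrCharacter Q // ¬ DZ p (β : Q → ℂ)} := by
  obtain ⟨e, he⟩ := gal_equiv hKT hT hθ hχ hres π hπ hker
  symm
  refine Nat.card_congr ?_
  refine Equiv.trans ?_ (Equiv.subtypeSubtypeEquivSubtypeInter _ _)
  refine e.subtypeEquiv fun β => not_congr ?_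
  have h1 : Nat.card T = Nat.card Q * Nat.card K := by
    have h2 := π.ker.card_eq_card_quotient_mul_card_subgroup
    rw [Nat.card_congr (QuotientGroup.quotientKerEquivOfSurjective π hπ).toEquiv] at h2
    rw [h2]
    congr 1
    have h3 : π.ker = K.subgroupOf T := by
      ext t
      rw [MonoidHom.mem_ker, hker, Subgroup.mem_subgroupOf]
    rw [h3]
    exact Nat.card_congr (Subgroup.subgroupOfEquivOfLe hKT).toEquiv
  have h4 : (Nat.card K).factorization p = 0 := Nat.factorization_eq_zero_of_not_dvd hpK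
  have h5 : (charDegree θ).factorization p = 0 := by
    apply Nat.factorization_eq_zero_of_not_dvd
    exact fun h => hpK (h.trans (Blocks.Knorr.charDegree_dvd hθ))
  unfold DZ
  rw [he, h1, Nat.factorization_mul (Blocks.Basic.charDegree_pos β.2).ne' (Blocks.Basic.charDegree_pos hθ).ne',
    Nat.factorization_mul Nat.card_pos.ne' Nat.card_pos.ne', Finsupp.add_apply, Finsupp.add_apply, h4, h5]
  omega

/-- the row condition = S4820 for `Q` -/
def RowEq (p : ℕ) (Q : Type w) [Group Q] : Prop :=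
  ∀ R : Sylow p Q, Nat.card {β : IrrCharacter Q // ¬ DZ p (β : Q → ℂ)} =
    Nat.card (ConjClasses (Subgroup.normalizer ((R : Subgroup Q) : Set Q)))

theorem rowEq_of (p : ℕ) (h : ∀ R : Sylow p Q, Nat.card (ConjClasses Q) =
    Nat.card (ConjClasses (Subgroup.normalizer ((R : Subgroup Q) : Set Q))) +
      Nat.card {β : IrrCharacter Q // (charDegree (β : Q → ℂ)).factorization p = (Nat.card Q).factorization p}) :
    RowEq p Q := by
  classical
  intro R
  have h1 := h R
  haveI := finite_irr (G := Q)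
  haveI := Fintype.ofFinite (IrrCharacter Q)
  rw [← card_irr] at h1
  have h2 : Nat.card (IrrCharacter Q) = Nat.card {β : IrrCharacter Q // DZ p (β : Q → ℂ)} +
      Nat.card {β : IrrCharacter Q // ¬ DZ p (β : Q → ℂ)} := by
    simp only [Nat.card_eq_fintype_card]
    rw [Fintype.card_subtype_compl]
    have := Fintype.card_subtype_le (fun β : IrrCharacter Q => DZ p (β : Q → ℂ))
    omega
  have h3 : Nat.card {β : IrrCharacter Q // DZ p (β : Q → ℂ)} =
    Nat.card {β : IrrCharacter Q // (charDegree (β : Q → ℂ)).factorization p = (Nat.card Q).factorization p} := rfl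
  omega

end ext

end Cfsg.Agent.H681.TI
end

-- part: H681/TI/Central
section
set_option linter.all false
open scoped Cfsg.Agent.FastGrp

-- part: H681/TI/Cliff
section
/-!
# S4819, Clifford part: reduction to the stabiliser, the extendible case (helper681)
-/

set_option autoImplicit false
set_option linter.style.haveILetI false
set_option linter.unusedSectionVars false

open Cfsg
open scoped Pointwise

namespace Cfsg.Agent.H681.TI

open Cfsg.Agent.H672 Cfsg.Agent.H672.RM Cfsg.Agent.H675.Nd Cfsg.Agent.Characters.Core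

universe u v w

section main
variable {G : Type u} [Group G] [Finite G] {p : ℕ} [hp : Fact p.Prime]

theorem le_nrm {K P : Subgroup G} (hKC : K ≤ Subgroup.centralizer (P : Set G)) :
    K ≤ Subgroup.normalizer (P : Set G) :=
  hKC.trans (Subgroup.centralizer_le_normalizer _)

/-- Reduction to the stabiliser of `θ`. -/
theorem card_eq_of_cond {M : Ideal AlgInt} (hM : IsPModular p M) (P : Sylow p G) (hP1 : (P : Subgroup G) ≠ ⊥)
    (hTI : ∀ g : G, g ∉ Subgroup.normalizer ((P : Subgroup G) : Set G) →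
      (P : Subgroup G) ⊓ (MulAut.conj g • (P : Subgroup G)) = ⊥)
    (K : Subgroup G) [hKn : K.Normal] (hK : ¬ p ∣ Nat.card K)
    (hKC : K ≤ Subgroup.centralizer ((P : Subgroup G) : Set G))
    (hC : ∀ x ∈ Subgroup.centralizer ((P : Subgroup G) : Set G), ¬ p ∣ orderOf x → x ∈ K)
    (hcond : ∀ (θ : K → ℂ) (hθ : IsIrrCharacter K θ),
      cND p (Subgroup.inclusion (le_stab (isIrr_isClassFunction hθ))) θ =
        cAll (Subgroup.inclusion (le_inf (le_nrm hKC) (le_stab (isIrr_isClassFunction hθ)))) θ)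
    (B : Set (IrrCharacter G)) (hBP : IsDefectGroup p M B P)
    (b : Set (IrrCharacter (Subgroup.normalizer ((P : Subgroup G) : Set G))))
    (hb : IsInducedBlock M (Subgroup.normalizer ((P : Subgroup G) : Set G)) b B) :
    Nat.card B = Nat.card b := by
  obtain ⟨θ, hθ, h1, h2⟩ := blocks_aux hM P _ rfl hP1 hTI K hK (le_nrm hKC) hC B hBP b hb
  have hst := le_stab (isIrr_isClassFunction hθ)
  have htop : ∀ U : Subgroup G, U ≤ Subgroup.normalizer (K : Set G) := fun U x _ => by
    rw [Subgroup.normalizer_eq_top]; exact Subgroup.mem_top x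
  have i1 : Inert K (stab θ) ⊤ θ := ⟨le_top, htop _, hθ, by rw [top_inf_eq]⟩
  have i2 : Inert K (Subgroup.normalizer ((P : Subgroup G) : Set G) ⊓ stab θ)
    (Subgroup.normalizer ((P : Subgroup G) : Set G)) θ := ⟨le_nrm hKC, htop _, hθ, rfl⟩
  have e1 : Nat.card B = cND p K.subtype θ := Nat.card_congr (Equiv.subtypeEquivRight h1)
  have e2 : Nat.card b = cAll (Subgroup.inclusion (le_nrm hKC)) θ := Nat.card_congr (Equiv.subtypeEquivRight h2)
  have e3 : cND p K.subtype θ = cND p (Subgroup.inclusion i1.le) θ :=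
    cND_congr p Subgroup.topEquiv.symm (MulEquiv.refl K) _ _ (fun _ => rfl) _ _ (fun _ => rfl)
  rw [e1, e2, e3, cND_clifford i1, cAll_clifford i2]
  exact hcond θ hθ

/-- The case that `θ` extends to `T`. -/
theorem cond_of_ext (P : Sylow p G) (K : Subgroup G) [hKn : K.Normal] (hK : ¬ p ∣ Nat.card K)
    (hKC : K ≤ Subgroup.centralizer ((P : Subgroup G) : Set G)) {θ : K → ℂ} (hθ : IsIrrCharacter K θ)
    {T : Subgroup G} (hKT : K ≤ T) (hPT : (P : Subgroup G) ≤ T)
    {χ : T → ℂ} (hχ : IsIrrCharacter T χ) (hres : ∀ k : K, χ (Subgroup.inclusion hKT k) = θ k)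
    {Q : Type w} [Group Q] [Finite Q] (π : T →* Q) (hπ : Function.Surjective π)
    (hker : ∀ t : T, π t = 1 ↔ (t : G) ∈ K) (hrow : RowEq p Q) :
    cND p (Subgroup.inclusion hKT) θ = cAll (Subgroup.inclusion (le_inf (le_nrm hKC) hKT)) θ := by
  classical
  have htop : ∀ U : Subgroup G, U ≤ Subgroup.normalizer (K : Set G) := fun U x _ => by
    rw [Subgroup.normalizer_eq_top]; exact Subgroup.mem_top x
  set N := Subgroup.normalizer ((P : Subgroup G) : Set G) with hN
  have hKN : K ≤ N := le_nrm hKC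
  let P' : Sylow p T := P.subtype hPT
  have hP' : ∀ t : T, t ∈ (P' : Subgroup T) ↔ (t : G) ∈ (P : Subgroup G) := fun t => Iff.rfl
  let R : Sylow p Q := P'.mapSurjective hπ
  have hR : ∀ y : Q, y ∈ (R : Subgroup Q) ↔ ∃ t : T, (t : G) ∈ (P : Subgroup G) ∧ π t = y := by
    intro y
    constructor
    · rintro ⟨t, ht, rfl⟩
      exact ⟨t, ht, rfl⟩
    · rintro ⟨t, ht, rfl⟩
      exact ⟨t, ht, rfl⟩
  -- elements of `P^t ∩ P K`
  have key : ∀ (u : G), IsOfFinOrder u → (∃ m : ℕ, u ^ p ^ m = 1) → ∀ a ∈ (P : Subgroup G), ∀ c ∈ K, u = a * c → c = 1 := by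
    rintro u - ⟨m, hm⟩ a ha c hc rfl
    have hcomm : Commute a c := (Subgroup.mem_centralizer_iff.1 (hKC hc) a ha)
    rw [hcomm.mul_pow] at hm
    obtain ⟨l, hl⟩ := P.2 ⟨a, ha⟩
    have hl' : a ^ p ^ l = 1 := congrArg Subtype.val hl
    have h3 : (a * c) ^ p ^ (m + l) = 1 := by
      rw [hcomm.mul_pow, pow_add, pow_mul, pow_mul, ← (hcomm.pow_pow _ _).mul_pow, hm, one_pow]
    rw [hcomm.mul_pow, pow_add, mul_comm (p ^ m) (p ^ l), pow_mul a, hl', one_pow, one_mul] at h3
    have h4 : orderOf c ∣ p ^ l * p ^ m := orderOf_dvd_of_pow_eq_one h3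
    have h5 : orderOf c ∣ Nat.card K := by
      have := orderOf_dvd_natCard (⟨c, hc⟩ : K)
      rwa [Subgroup.orderOf_mk] at this
    have h6 : Nat.Coprime (p ^ l * p ^ m) (Nat.card K) := by
      rw [← pow_add]
      exact Nat.Coprime.pow_left _ ((Nat.Prime.coprime_iff_not_dvd hp.out).2 hK)
    exact orderOf_eq_one_iff.1 (Nat.eq_one_of_dvd_coprimes h6 h4 h5)
  have hmem : ∀ t : T, π t ∈ Subgroup.normalizer ((R : Subgroup Q) : Set Q) ↔ (t : G) ∈ N := by
    intro t
    constructor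
    · intro ht
      have hsub : ∀ a ∈ (P : Subgroup G), (t : G) * a * (t : G)⁻¹ ∈ (P : Subgroup G) := by
        intro a ha
        have h1 : π t * π ⟨a, hPT ha⟩ * (π t)⁻¹ ∈ (R : Subgroup Q) :=
          (Subgroup.mem_normalizer_iff.1 ht _).1 ((hR _).2 ⟨_, ha, rfl⟩)
        obtain ⟨s, hs, hs'⟩ := (hR _).1 h1
        have h2 : π (s⁻¹ * (t * ⟨a, hPT ha⟩ * t⁻¹)) = 1 := by
          rw [map_mul, map_inv, hs', map_mul, map_mul, map_inv, inv_mul_cancel]
        rw [hker] at h2
        have h3 : (t : G) * a * (t : G)⁻¹ = (s : G) * ((s : G)⁻¹ * ((t : G) * a * (t : G)⁻¹)) := by group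
        have h4 := key ((t : G) * a * (t : G)⁻¹) (isOfFinOrder_of_finite _) (by
          obtain ⟨m, hm⟩ := P.2 ⟨a, ha⟩
          refine ⟨m, ?_⟩
          have hm' : a ^ p ^ m = 1 := congrArg Subtype.val hm
          rw [conj_pow, hm', mul_one, mul_inv_cancel]) (s : G) hs _ h2 h3
        have h5 : (t : G) * a * (t : G)⁻¹ = (s : G) := by
          rw [h3]
          have h6 : ((s⁻¹ * (t * ⟨a, hPT ha⟩ * t⁻¹) : T) : G) = (s : G)⁻¹ * ((t : G) * a * (t : G)⁻¹) := rfl
          rw [← h6, h4, mul_one]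
        rw [h5]; exact hs
      rw [hN, Subgroup.mem_normalizer_iff]
      have h7 : (P : Subgroup G).map (MulAut.conj (t : G)).toMonoidHom = P := by
        apply Subgroup.eq_of_le_of_card_ge
        · rintro _ ⟨a, ha, rfl⟩
          exact hsub a ha
        · rw [Subgroup.card_map_of_injective (MulAut.conj (t : G)).injective]
      intro a
      refine ⟨fun ha => hsub a ha, fun ha => ?_⟩
      rw [← h7] at ha
      obtain ⟨a', ha', he⟩ := ha
      have h8 : a' = a := (MulAut.conj (t : G)).injective he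
      exact h8 ▸ ha'
    · intro ht
      rw [Subgroup.mem_normalizer_iff]
      intro y
      constructor
      · intro hy
        obtain ⟨s, hs, rfl⟩ := (hR y).1 hy
        exact (hR _).2 ⟨t * s * t⁻¹, (Subgroup.mem_normalizer_iff.1 ht _).1 hs, by simp only [_root_.map_mul, _root_.map_inv]⟩
      · intro hy
        obtain ⟨s, hs, hs'⟩ := (hR _).1 hy
        refine (hR _).2 ⟨t⁻¹ * s * t, ?_, ?_⟩
        · have h9 := (Subgroup.mem_normalizer_iff.1 (N.inv_mem ht) (s : G)).1 hs
          simpa only [_root_.Subgroup.coe_mul, _root_.InvMemClass.coe_inv, _root_.inv_inv] using h9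
        · rw [map_mul, map_mul, map_inv, hs']; group
  let π' : (N ⊓ T : Subgroup G) →* Subgroup.normalizer ((R : Subgroup Q) : Set Q) :=
    { toFun := fun t => ⟨π ⟨t, t.2.2⟩, (hmem _).2 t.2.1⟩
      map_one' := Subtype.ext (map_one π)
      map_mul' := fun s t => Subtype.ext (map_mul π ⟨s, s.2.2⟩ ⟨t, t.2.2⟩) }
  have hπ' : Function.Surjective π' := by
    rintro ⟨y, hy⟩
    obtain ⟨t, rfl⟩ := hπ y
    exact ⟨⟨t, (hmem t).1 hy, t.2⟩, rfl⟩
  have hker' : ∀ t : (N ⊓ T : Subgroup G), π' t = 1 ↔ (t : G) ∈ K := by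
    intro t
    rw [← hker ⟨t, t.2.2⟩]
    exact ⟨fun h => congrArg Subtype.val h, fun h => Subtype.ext h⟩
  have hχ' : IsIrrCharacter (N ⊓ T : Subgroup G) (χ ∘ Subgroup.inclusion inf_le_right) := by
    refine CharactersDeep.MaxInduced.isIrr_of_comp (Subgroup.inclusion (le_inf hKN hKT))
      (isCharacter_comp _ (isIrr_isCharacter hχ)) ?_
    have h9 : (χ ∘ Subgroup.inclusion inf_le_right) ∘ Subgroup.inclusion (le_inf hKN hKT) = θ := by
      funext k; exact hres k
    rw [h9]
    exact hθ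
  rw [cND_of_ext hK hKT (htop T) hθ hχ hres π hπ hker,
    cAll_of_ext (le_inf hKN hKT) (htop _) hθ hχ' hres π' hπ' hker']
  exact hrow R

end main

end Cfsg.Agent.H681.TI
end

-- part: H681/TI/Central
section
/-!
# S4819, Clifford part: central products, and the extension when `G_θ / KE` is cyclic (helper681)
-/

set_option autoImplicit false
set_option linter.style.haveILetI false
set_option linter.unusedSectionVars false

open Cfsg
open scoped Pointwise

namespace Cfsg.Agent.H681.TI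

open Cfsg.Agent.H672 Cfsg.Agent.H672.RM Cfsg.Agent.H675.Nd Cfsg.Agent.Characters.Core

universe u v w

section infl
variable {Y : Type v} {L : Type w} [Group Y] [Group L] [Finite Y] [Finite L]

/-- The characters of a homomorphic image. -/
theorem infl_ker_equiv (φ : Y →* L) (hφ : Function.Surjective φ) :
    ∃ E : IrrCharacter L ≃ {β : IrrCharacter Y // ∀ n ∈ φ.ker, (β : Y → ℂ) n = (β : Y → ℂ) 1},
      ∀ χ, ((E χ).1 : Y → ℂ) = (χ : L → ℂ) ∘ φ := by
  classical
  obtain ⟨E, hE⟩ := H604.Acd.exists_equiv_quotient φ.ker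
  let e : Y ⧸ φ.ker ≃* L := QuotientGroup.quotientKerEquivOfSurjective φ hφ
  refine ⟨(irrEquiv e).trans E, fun χ => ?_⟩
  change ((E (irrEquiv e χ)).1 : Y → ℂ) = _
  rw [hE]
  funext t
  rfl

end infl

section central
variable {G : Type u} [Group G] [Finite G]

/-- The characters of a central product over a character of one factor. -/
theorem central_equiv (K E L : Subgroup G) [hKn : K.Normal] (hcomm : ∀ k ∈ K, ∀ e ∈ E, k * e = e * k)
    (hKL : K ≤ L) (hEL : E ≤ L) (hL : L ≤ K ⊔ E) {θ : K → ℂ} (hθ : IsIrrCharacter K θ)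
    (l : ↥(K ⊓ E) →* ℂˣ) (hl : ∀ z : ↥(K ⊓ E), θ ⟨z, z.2.1⟩ = (l z : ℂ) * θ 1) :
    ∃ e : {η : IrrCharacter E // ∀ z : ↥(K ⊓ E), (η : E → ℂ) ⟨z, z.2.2⟩ = (l z : ℂ) * (η : E → ℂ) 1} ≃
      {ψ : IrrCharacter L // Over (Subgroup.inclusion hKL) (ψ : L → ℂ) θ},
      ∀ η, charDegree ((e η).1 : L → ℂ) = charDegree θ * charDegree (η.1 : E → ℂ) := by
  classical
  letI := Fintype.ofFinite K
  let φ : K × E →* L :=
    { toFun := fun x => ⟨(x.1 : G) * x.2, L.mul_mem (hKL x.1.2) (hEL x.2.2)⟩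
      map_one' := Subtype.ext (by simp only [_root_.Prod.fst_one, _root_.OneMemClass.coe_one, _root_.Prod.snd_one, _root_.mul_one])
      map_mul' := fun x y => Subtype.ext (by
        have h := hcomm y.1 y.1.2 x.2 x.2.2
        change (x.1 : G) * y.1 * (x.2 * y.2) = (x.1 : G) * x.2 * (y.1 * y.2)
        calc (x.1 : G) * y.1 * (x.2 * y.2) = x.1 * (y.1 * x.2) * y.2 := by group
          _ = x.1 * (x.2 * y.1) * y.2 := by rw [h]
          _ = _ := by group) }
  have hφ : Function.Surjective φ := by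
    rintro ⟨x, hx⟩
    have h1 := hL hx
    rw [← SetLike.mem_coe, Subgroup.normal_mul] at h1
    obtain ⟨k, hk, e, he, rfl⟩ := h1
    exact ⟨(⟨k, hk⟩, ⟨e, he⟩), rfl⟩
  obtain ⟨EE, hEE⟩ := infl_ker_equiv φ hφ
  have hθ0 := isIrr_apply_one_ne_zero hθ
  have hker : ∀ η : E → ℂ, (∀ z : ↥(K ⊓ E), η ⟨z, z.2.2⟩ = (l z : ℂ) * η 1) →
      ∀ n ∈ φ.ker, θ n.1 * η n.2 = θ (1 : K × E).1 * η (1 : K × E).2 := by
    rintro η hη ⟨⟨k, hk⟩, ⟨e, he⟩⟩ hn
    have h1 : k * e = 1 := congrArg Subtype.val ((MonoidHom.mem_ker).1 hn)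
    have h2 : e = k⁻¹ := eq_inv_of_mul_eq_one_right h1
    subst h2
    have hkE : k ∈ E := by simpa using E.inv_mem he
    have h3 := hl ⟨k, hk, hkE⟩
    have h4 := hη (⟨k, hk, hkE⟩⁻¹)
    have h5 : (l ⟨k, hk, hkE⟩ : ℂ) * (l (⟨k, hk, hkE⟩⁻¹) : ℂ) = 1 := by
      rw [← Units.val_mul, ← map_mul, mul_inv_cancel, map_one, Units.val_one]
    change θ ⟨k, hk⟩ * η ⟨k⁻¹, he⟩ = θ 1 * η 1
    have h6 : (⟨((⟨k, hk, hkE⟩⁻¹ : ↥(K ⊓ E)) : G), (⟨k, hk, hkE⟩⁻¹ : ↥(K ⊓ E)).2.2⟩ : E) = ⟨k⁻¹, he⟩ := rfl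
    rw [h6] at h4
    rw [h3, h4]
    linear_combination (θ 1 * η 1) * h5
  let F : {η : IrrCharacter E // ∀ z : ↥(K ⊓ E), (η : E → ℂ) ⟨z, z.2.2⟩ = (l z : ℂ) * (η : E → ℂ) 1} →
      IrrCharacter L := fun η => EE.symm
    ⟨⟨fun x : K × E => θ x.1 * (η.1 : E → ℂ) x.2, S0188.isIrr_outer hθ η.1.2⟩, hker _ η.2⟩
  have hF : ∀ η (x : K × E), (F η : L → ℂ) (φ x) = θ x.1 * (η.1 : E → ℂ) x.2 := by
    intro η x
    have h1 := hEE (F η)
    have h2 : EE (F η) = _ := EE.apply_symm_apply _
    rw [h2] at h1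
    exact (congrFun h1 x).symm
  have hFK : ∀ η (k : K), (F η : L → ℂ) (Subgroup.inclusion hKL k) = (η.1 : E → ℂ) 1 * θ k := by
    intro η k
    have h1 : Subgroup.inclusion hKL k = φ (k, 1) := Subtype.ext (by simp only [φ, _root_.Subgroup.coe_inclusion, _root_.MonoidHom.coe_mk, _root_.OneHom.coe_mk, _root_.OneMemClass.coe_one, _root_.mul_one])
    rw [h1, hF, mul_comm]
  have hFover : ∀ η, Over (Subgroup.inclusion hKL) (F η : L → ℂ) θ := by
    intro η
    rw [over_iff]
    have h1 : (F η : L → ℂ) ∘ Subgroup.inclusion hKL = ((η.1 : E → ℂ) 1) • θ := by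
      funext k; exact hFK η k
    rw [h1, classInner_smul_left, classInner_irr_self hθ, mul_one]
    exact isIrr_apply_one_ne_zero η.1.2
  have hbij : Function.Bijective (fun η => (⟨F η, hFover η⟩ :
      {ψ : IrrCharacter L // Over (Subgroup.inclusion hKL) (ψ : L → ℂ) θ})) := by
    constructor
    · intro η η' h
      have h1 : F η = F η' := congrArg Subtype.val h
      apply Subtype.ext
      apply Subtype.ext
      funext e
      have h2 := hF η (1, e)
      rw [h1, hF η' (1, e)] at h2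
      exact (mul_left_cancel₀ hθ0 h2).symm
    · rintro ⟨ψ, hψ⟩
      have h1 : IsIrrCharacter (K × E) ((ψ : L → ℂ) ∘ φ) := isIrr_comp φ hφ ψ.2
      obtain ⟨a, η, ha, hη, hab⟩ := (S0188.result _).1 h1
      have h2 : ∀ k : K, (ψ : L → ℂ) (Subgroup.inclusion hKL k) = η 1 * a k := by
        intro k
        have h3 : Subgroup.inclusion hKL k = φ (k, 1) := Subtype.ext (by simp only [φ, _root_.Subgroup.coe_inclusion, _root_.MonoidHom.coe_mk, _root_.OneHom.coe_mk, _root_.OneMemClass.coe_one, _root_.mul_one])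
        have h4 := congrFun hab (k, 1)
        rw [h3, mul_comm]
        exact h4
      have hη0 := isIrr_apply_one_ne_zero hη
      have haθ : a = θ := by
        by_contra hne
        rw [over_iff] at hψ
        apply hψ
        have h3 : (ψ : L → ℂ) ∘ Subgroup.inclusion hKL = (η 1) • a := by
          funext k; exact h2 k
        rw [h3, classInner_smul_left, classInner_irr_ne ha hθ hne, mul_zero]
      subst haθ
      have h5 : ∀ z : ↥(K ⊓ E), η ⟨z, z.2.2⟩ = (l z : ℂ) * η 1 := by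
        intro z
        have h6 := congrFun hab (⟨z, z.2.1⟩⁻¹, ⟨z, z.2.2⟩)
        have h7 : φ (⟨z, z.2.1⟩⁻¹, ⟨z, z.2.2⟩) = φ 1 := Subtype.ext (by simp only [φ, _root_.MonoidHom.coe_mk, _root_.OneHom.coe_mk, _root_.InvMemClass.coe_inv, _root_.inv_mul_cancel, _root_.Prod.fst_one, _root_.OneMemClass.coe_one, _root_.Prod.snd_one, _root_.mul_one])
        have h8 := congrFun hab 1
        simp only [Function.comp] at h6 h8
        rw [h7, h8] at h6
        have h9 := hl z⁻¹
        have h10 : (⟨((z⁻¹ : ↥(K ⊓ E)) : G), (z⁻¹ : ↥(K ⊓ E)).2.1⟩ : K) = (⟨z, z.2.1⟩ : K)⁻¹ := rfl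
        rw [h10] at h9
        rw [h9] at h6
        have h11 : (l z : ℂ) * (l z⁻¹ : ℂ) = 1 := by
          rw [← Units.val_mul, ← map_mul, mul_inv_cancel, map_one, Units.val_one]
        change a 1 * η 1 = _ at h6
        have h12 : a 1 * η ⟨z, z.2.2⟩ = a 1 * ((l z : ℂ) * η 1) := by
          linear_combination (-(l z : ℂ)) * h6 - (a 1 * η ⟨z, z.2.2⟩) * h11
        exact mul_left_cancel₀ hθ0 h12
      refine ⟨⟨⟨η, hη⟩, h5⟩, ?_⟩
      apply Subtype.ext
      apply EE.injective
      apply Subtype.ext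
      apply Subtype.ext
      rw [hEE ψ, hab]
      funext x
      rw [hEE]
      exact hF ⟨⟨η, hη⟩, h5⟩ x
  refine ⟨Equiv.ofBijective _ hbij, fun η => ?_⟩
  apply charDegree_of_eq
  push_cast
  rw [coe_charDegree hθ, coe_charDegree η.1.2]
  have h1 := hF η 1
  rw [map_one] at h1
  exact h1

/-- The defect zero condition in a central product with a `p'`-group. -/
theorem dz_central {p : ℕ} [hp : Fact p.Prime] {K E L : Subgroup G} [hKn : K.Normal] (hK : ¬ p ∣ Nat.card K)
    (hcomm : ∀ k ∈ K, ∀ e ∈ E, k * e = e * k) (hKL : K ≤ L) (hEL : E ≤ L) (hL : L ≤ K ⊔ E)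
    {θ : K → ℂ} (hθ : IsIrrCharacter K θ) {η : E → ℂ} (hη : IsIrrCharacter E η) {ψ : L → ℂ}
    (h : charDegree ψ = charDegree θ * charDegree η) : DZ p ψ ↔ DZ p η := by
  have h5 : (charDegree θ).factorization p = 0 := by
    apply Nat.factorization_eq_zero_of_not_dvd
    exact fun h => hK (h.trans (Blocks.Knorr.charDegree_dvd hθ))
  have h6 : (Nat.card L).factorization p = (Nat.card E).factorization p := by
    have h7 : L = K ⊔ E := le_antisymm hL (sup_le hKL hEL)
    have h8 : Nat.card L ∣ Nat.card K * Nat.card E := by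
      rw [← Nat.card_prod]
      let φ : K × E →* L :=
        { toFun := fun x => ⟨(x.1 : G) * x.2, L.mul_mem (hKL x.1.2) (hEL x.2.2)⟩
          map_one' := Subtype.ext (by simp only [_root_.Prod.fst_one, _root_.OneMemClass.coe_one, _root_.Prod.snd_one, _root_.mul_one])
          map_mul' := fun x y => Subtype.ext (by
            have h := hcomm y.1 y.1.2 x.2 x.2.2
            change (x.1 : G) * y.1 * (x.2 * y.2) = (x.1 : G) * x.2 * (y.1 * y.2)
            calc (x.1 : G) * y.1 * (x.2 * y.2) = x.1 * (y.1 * x.2) * y.2 := by group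
              _ = x.1 * (x.2 * y.1) * y.2 := by rw [h]
              _ = _ := by group) }
      refine Subgroup.card_dvd_of_surjective φ ?_
      rintro ⟨x, hx⟩
      have h1 := hL hx
      rw [← SetLike.mem_coe, Subgroup.normal_mul] at h1
      obtain ⟨k, hk, e, he, rfl⟩ := h1
      exact ⟨(⟨k, hk⟩, ⟨e, he⟩), rfl⟩
    have h9 : Nat.card E ∣ Nat.card L := Subgroup.card_dvd_of_le hEL
    apply le_antisymm
    · have h10 := (Nat.factorization_le_iff_dvd Nat.card_pos.ne'
        (mul_ne_zero Nat.card_pos.ne' Nat.card_pos.ne')).2 h8 p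
      rw [Nat.factorization_mul Nat.card_pos.ne' Nat.card_pos.ne', Finsupp.add_apply,
        Nat.factorization_eq_zero_of_not_dvd hK, zero_add] at h10
      exact h10
    · exact (Nat.factorization_le_iff_dvd Nat.card_pos.ne' Nat.card_pos.ne').2 h9 p
  unfold DZ
  rw [h, h6, Nat.factorization_mul (Blocks.Basic.charDegree_pos hθ).ne' (Blocks.Basic.charDegree_pos hη).ne',
    Finsupp.add_apply, h5, zero_add]

/-- The condition at `θ` when the stabiliser is the central product `K E`. -/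
theorem cond_of_central {p : ℕ} [hp : Fact p.Prime] (P : Sylow p G) (K E T : Subgroup G) [hKn : K.Normal]
    (hK : ¬ p ∣ Nat.card K) (hKC : K ≤ Subgroup.centralizer ((P : Subgroup G) : Set G))
    (hcomm : ∀ k ∈ K, ∀ e ∈ E, k * e = e * k)
    (hKT : K ≤ T) (hET : E ≤ T) (hT : T ≤ K ⊔ E) {θ : K → ℂ} (hθ : IsIrrCharacter K θ)
    (l : ↥(K ⊓ E) →* ℂˣ) (hl : ∀ z : ↥(K ⊓ E), θ ⟨z, z.2.1⟩ = (l z : ℂ) * θ 1)
    (hrow : Nat.card {η : IrrCharacter E // (∀ z : ↥(K ⊓ E), (η : E → ℂ) ⟨z, z.2.2⟩ = (l z : ℂ) * (η : E → ℂ) 1) ∧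
        ¬ DZ p (η : E → ℂ)} =
      Nat.card {η : IrrCharacter (Subgroup.normalizer ((P : Subgroup G) : Set G) ⊓ E : Subgroup G) //
        ∀ z : ↥(K ⊓ E), (η : (Subgroup.normalizer ((P : Subgroup G) : Set G) ⊓ E : Subgroup G) → ℂ)
          ⟨z, (le_nrm hKC) z.2.1, z.2.2⟩ = (l z : ℂ) *
            (η : (Subgroup.normalizer ((P : Subgroup G) : Set G) ⊓ E : Subgroup G) → ℂ) 1}) :
    cND p (Subgroup.inclusion hKT) θ = cAll (Subgroup.inclusion (le_inf (le_nrm hKC) hKT)) θ := by
  classical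
  set N := Subgroup.normalizer ((P : Subgroup G) : Set G) with hN
  have hKN : K ≤ N := le_nrm hKC
  obtain ⟨e, he⟩ := central_equiv K E T hcomm hKT hET hT hθ l hl
  have h1 : cND p (Subgroup.inclusion hKT) θ = Nat.card {η : IrrCharacter E //
      (∀ z : ↥(K ⊓ E), (η : E → ℂ) ⟨z, z.2.2⟩ = (l z : ℂ) * (η : E → ℂ) 1) ∧ ¬ DZ p (η : E → ℂ)} := by
    symm
    refine Nat.card_congr ?_
    refine (Equiv.subtypeSubtypeEquivSubtypeInter _ _).symm.trans
      (Equiv.trans ?_ (Equiv.subtypeSubtypeEquivSubtypeInter _ _))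
    refine e.subtypeEquiv fun η => ?_
    exact (dz_central hK hcomm hKT hET hT hθ η.1.2 (he η)).not.symm
  let ι : ↥(K ⊓ (N ⊓ E)) →* ↥(K ⊓ E) := Subgroup.inclusion (inf_le_inf_left K inf_le_right)
  obtain ⟨e', -⟩ := central_equiv K (N ⊓ E) (N ⊓ T) (fun k hk x hx => hcomm k hk x hx.2) (le_inf hKN hKT)
    (inf_le_inf_left N hET) (by
      rintro x ⟨hxN, hxT⟩
      have h2 := hT hxT
      rw [← SetLike.mem_coe, Subgroup.normal_mul] at h2
      obtain ⟨k, hk, y, hy, rfl⟩ := h2
      refine Subgroup.mul_mem_sup hk ⟨?_, hy⟩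
      have h3 : y = k⁻¹ * (k * y) := by group
      rw [h3]
      exact N.mul_mem (N.inv_mem (hKN hk)) hxN) hθ (l.comp ι) (fun z => hl (ι z))
  have h2 : cAll (Subgroup.inclusion (le_inf hKN hKT)) θ = Nat.card {η : IrrCharacter (N ⊓ E : Subgroup G) //
        ∀ z : ↥(K ⊓ E), (η : (N ⊓ E : Subgroup G) → ℂ)
          ⟨z, hKN z.2.1, z.2.2⟩ = (l z : ℂ) * (η : (N ⊓ E : Subgroup G) → ℂ) 1} := by
    unfold cAll
    rw [← Nat.card_congr e']
    refine Nat.card_congr (Equiv.subtypeEquivRight fun η => ?_)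
    constructor
    · intro h z
      exact h ⟨z, z.2.1, hKN z.2.1, z.2.2⟩
    · intro h z
      exact h (ι z)
  rw [h1, h2]
  exact hrow

/-- The extension of `θ` when it is trivial on `K ∩ E` and `T / K E` is cyclic. -/
theorem exists_ext_of_cyclic (K E T : Subgroup G) [hKn : K.Normal] [hEn : E.Normal]
    (hcomm : ∀ k ∈ K, ∀ e ∈ E, k * e = e * k) (hKT : K ≤ T) (hET : E ≤ T)
    {θ : K → ℂ} (hθ : IsIrrCharacter K θ) (hTst : T ≤ stab θ)
    (htriv : ∀ z : ↥(K ⊓ E), θ ⟨z, z.2.1⟩ = θ 1) (hcyc : IsCyclic (T ⧸ (K ⊔ E).subgroupOf T)) :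
    ∃ χ : T → ℂ, IsIrrCharacter T χ ∧ ∀ k : K, χ (Subgroup.inclusion hKT k) = θ k := by
  classical
  letI := Fintype.ofFinite K
  -- `θ` comes from `K / (K ∩ E) = K E / E`
  set L := K ⊔ E with hL
  have hLT : L ≤ T := sup_le hKT hET
  let ρ : L →* L ⧸ E.subgroupOf L := QuotientGroup.mk' _
  let κ : K →* L ⧸ E.subgroupOf L := ρ.comp (Subgroup.inclusion le_sup_left)
  have hκ : Function.Surjective κ := by
    intro y
    obtain ⟨⟨x, hx⟩, rfl⟩ := QuotientGroup.mk'_surjective _ y
    have h1 := hx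
    rw [hL, ← SetLike.mem_coe, Subgroup.normal_mul] at h1
    obtain ⟨k, hk, e, he, rfl⟩ := h1
    refine ⟨⟨k, hk⟩, ?_⟩
    change QuotientGroup.mk' _ _ = QuotientGroup.mk' _ _
    rw [QuotientGroup.mk'_eq_mk']
    exact ⟨⟨e, (le_sup_right : E ≤ L) he⟩, Subgroup.mem_subgroupOf.2 he, rfl⟩
  obtain ⟨EE, hEE⟩ := infl_ker_equiv κ hκ
  have hker : ∀ n ∈ κ.ker, θ n = θ 1 := by
    intro n hn
    have h1 : (Subgroup.inclusion (le_sup_left : K ≤ L) n) ∈ E.subgroupOf L :=
      (QuotientGroup.eq_one_iff _).1 ((MonoidHom.mem_ker).1 hn)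
    exact htriv ⟨n, n.2, h1⟩
  obtain ⟨θb, hθb⟩ : ∃ θb : IrrCharacter (L ⧸ E.subgroupOf L), (θb : L ⧸ E.subgroupOf L → ℂ) ∘ κ = θ := by
    refine ⟨EE.symm ⟨⟨θ, hθ⟩, hker⟩, ?_⟩
    rw [← hEE, Equiv.apply_symm_apply]
  have hθL : IsIrrCharacter L ((θb : L ⧸ E.subgroupOf L → ℂ) ∘ ρ) :=
    isIrr_comp ρ (QuotientGroup.mk'_surjective _) θb.2
  haveI : (L.subgroupOf T).Normal := inferInstance
  obtain ⟨χ, hχ, hχL⟩ := S0886.result (L.subgroupOf T) hcyc
    (((θb : L ⧸ E.subgroupOf L → ℂ) ∘ ρ) ∘ Subgroup.subgroupOfEquivOfLe hLT)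
    (isIrr_sub hLT hθL) (by
      intro g n
      have hval : ∀ (x : G) (hx : x ∈ L) (k : G) (hk : k ∈ K) (e : G) (he : e ∈ E), x = k * e →
          (θb : L ⧸ E.subgroupOf L → ℂ) (ρ ⟨x, hx⟩) = θ ⟨k, hk⟩ := by
        rintro x hx k hk e he rfl
        rw [← hθb]
        change _ = (θb : L ⧸ E.subgroupOf L → ℂ) (ρ (Subgroup.inclusion le_sup_left ⟨k, hk⟩))
        symm
        refine congrArg (θb : L ⧸ E.subgroupOf L → ℂ) ?_
        change (QuotientGroup.mk' (E.subgroupOf L)) _ = (QuotientGroup.mk' (E.subgroupOf L)) _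
        rw [QuotientGroup.mk'_eq_mk']
        exact ⟨⟨e, (le_sup_right : E ≤ L) he⟩, Subgroup.mem_subgroupOf.2 he, rfl⟩
      have hnL : ((n : T) : G) ∈ L := n.2
      have h1 : ((n : T) : G) ∈ ((K ⊔ E : Subgroup G) : Set G) := n.2
      rw [Subgroup.normal_mul] at h1
      obtain ⟨k, hk, e, he, hke⟩ := h1
      have hke' : ((n : T) : G) = k * e := hke.symm
      have h2 := hval _ hnL k hk e he hke'
      have hgk : (g : G) * k * (g : G)⁻¹ ∈ K := hKn.conj_mem k hk g
      have hge : (g : G) * e * (g : G)⁻¹ ∈ E := hEn.conj_mem e he g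
      have hgn : (g : G) * ((n : T) : G) * (g : G)⁻¹ ∈ L := by
        rw [hke', show (g : G) * (k * e) * (g : G)⁻¹ = ((g : G) * k * (g : G)⁻¹) * ((g : G) * e * (g : G)⁻¹) by group]
        exact Subgroup.mul_mem_sup hgk hge
      have h3 := hval _ hgn _ hgk _ hge (by rw [hke']; group)
      have h4 : θ ⟨(g : G) * k * (g : G)⁻¹, hgk⟩ = θ ⟨k, hk⟩ := by
        have h5 := (hTst g.2).2
        have h6 := tw_apply' (hTst g.2).1 θ ⟨k, hk⟩ ⟨(g : G) * k * (g : G)⁻¹, hgk⟩ rfl
        rw [h5] at h6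
        exact h6.symm
      change (θb : L ⧸ E.subgroupOf L → ℂ) (ρ ⟨_, _⟩) = (θb : L ⧸ E.subgroupOf L → ℂ) (ρ ⟨_, _⟩)
      exact h3.trans (h4.trans h2.symm))
  refine ⟨χ, hχ, fun k => ?_⟩
  have h1 := hχL ⟨Subgroup.inclusion hKT k, Subgroup.mem_subgroupOf.2 ((le_sup_left : K ≤ L) k.2)⟩
  change χ (Subgroup.inclusion hKT k) = _ at h1
  rw [h1]
  exact congrFun hθb k

end central

end Cfsg.Agent.H681.TI
end
end
end
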